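import Groth.Agent.ModEtQCoh.Grothendieck
import Groth.Agent.ModEtQCoh.Closure
import Groth.Agent.Misc4.QCohDSum
import Groth.Prelude.Def_AlgSpD

/-!
# Sums of objects with quasi-coherent cohomology sheaves on small etale sites
-/

set_option autoImplicit false
set_option backward.isDefEq.respectTransparency.types false
set_option linter.style.haveILetI false
universe u

open CategoryTheory CategoryTheory.Limits AlgebraicGeometry AlgSp Groth.ModEtQCoh

noncomputable section

attribute [local instance] HasDerivedCategory.standard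

namespace Groth.ModEtQCoh.DQCoh

variable {S : Scheme.{u}} {X : Sp S}

theorem isQuasicoherent_of_iso {M N : ModEt X} (e : M ≅ N) [M.IsQuasicoherent] : N.IsQuasicoherent :=
  (SheafOfModules.isQuasicoherent (OEtRing X)).prop_of_iso e ‹M.IsQuasicoherent›

theorem isQCohDMod_sigma {ι : Type (u + 1)} (K : ι → DModEt X) [HasCoproduct K]
    (hK : ∀ i, DCoh.IsQCohDMod (OEtRing X) (K i)) : DCoh.IsQCohDMod (OEtRing X) (∐ K) := by
  haveI := Grothendieck.isGrothendieckAbelian_modEt X
  intro n
  let C := fun i => DerivedCategory.Q.objPreimage (K i)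
  let e : ∀ i, DerivedCategory.Q.obj (C i) ≅ K i := fun i => DerivedCategory.Q.objObjPreimageIso (K i)
  obtain ⟨hQ⟩ := Groth.Misc4.QCoprod.nonempty_isColimit C
  let s : DerivedCategory.Q.obj (∐ C) ≅ ∐ K :=
    IsColimit.coconePointsIsoOfNatIso hQ (colimit.isColimit _) (Discrete.natIso fun i => e i.as)
  obtain ⟨H, hH, ⟨σ⟩⟩ := Groth.Misc4.QCohDSum.exists_homology_sigma C n
  have hq : ∀ i, HasBC (H.obj ⟨i⟩) := fun i => by
    haveI := hK i n
    exact @hasBC_of_isQuasicoherent _ _ _ (isQuasicoherent_of_iso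
      ((DerivedCategory.homologyFunctor (ModEt X) n).mapIso (e i).symm ≪≫
        (DerivedCategory.homologyFunctorFactors (ModEt X) n).app (C i) ≪≫ (hH i).some.symm))
  haveI := isQuasicoherent_of_hasBC (hasBC_sigma (fun i => H.obj ⟨i⟩) hq)
  let t : colimit H ≅ ∐ fun i => H.obj ⟨i⟩ := HasColimit.isoOfNatIso (Discrete.natIso fun i => Iso.refl _)
  exact isQuasicoherent_of_iso (t.symm ≪≫ σ.symm ≪≫
    ((DerivedCategory.homologyFunctorFactors (ModEt X) n).app _).symm ≪≫
    (DerivedCategory.homologyFunctor (ModEt X) n).mapIso s)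

end Groth.ModEtQCoh.DQCoh

end
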